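import Groth.Agent.EtPBC63.Conn.Geometric
import Groth.Agent.EtFound.SpectralPiZero
import Groth.Agent.ConsPropLib.Noetherian

/-!
# Connected components of a proper scheme over a henselian pair
-/

universe u

open CategoryTheory CategoryTheory.Limits AlgebraicGeometry Topology

namespace Groth.Agent.EtPBC63.Conn

variable {A : Type u} [CommRing A] (I : Ideal A) [HenselianRing A I] {X : Scheme.{u}}
  (f : X ⟶ Spec (CommRingCat.of A)) [IsProper f]

/-- The closed part of a proper scheme over a henselian pair meets every point closure in a connected set. -/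
theorem isConnected_inter_closure (x : X) :
    IsConnected (f ⁻¹' PrimeSpectrum.zeroLocus (I : Set A) ∩ closure {x}) := by
  obtain ⟨T, j, _, _, hj, -⟩ := ConsPropLib.exists_integral_closure x
  refine ⟨?_, ?_⟩
  · obtain ⟨m, hm, hle⟩ := Ideal.exists_le_maximal (f x).asIdeal (f x).isPrime.ne_top
    let p : PrimeSpectrum A := ⟨m, hm.isPrime⟩
    obtain ⟨z, hz, hzp⟩ : p ∈ f '' closure {x} := by
      refine (f.isClosedMap _ isClosed_closure).stableUnderSpecialization ?_ ⟨x, subset_closure rfl, rfl⟩
      exact (PrimeSpectrum.le_iff_specializes _ _).mp hle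
    refine ⟨z, ?_, hz⟩
    show f z ∈ (PrimeSpectrum.zeroLocus (I : Set A) : Set (PrimeSpectrum A))
    rw [hzp]
    exact (HenselianRing.jac (I := I)).trans (sInf_le ⟨bot_le, hm⟩)
  · haveI : IsProper (j ≫ f) := MorphismProperty.comp_mem @IsProper _ _ inferInstance inferInstance
    have h := (isPreconnected_closed_part (j ≫ f) I).image j j.continuous.continuousOn
    have he : j '' ((j ≫ f) ⁻¹' PrimeSpectrum.zeroLocus (I : Set A)) =
        f ⁻¹' PrimeSpectrum.zeroLocus (I : Set A) ∩ closure {x} := by
      rw [← hj, ← Set.image_preimage_eq_inter_range]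
      rfl
    rwa [he] at h

include I f in
theorem spectralSpace : SpectralSpace X := by
  haveI : CompactSpace X := QuasiCompact.compactSpace_of_compactSpace f
  haveI : QuasiSeparatedSpace X := quasiSeparatedSpace_of_quasiSeparated f
  exact {}

/-- Connected components biject with those of the closed part. -/
theorem bijective_connectedComponentsMap {Y : Type u} [TopologicalSpace Y] {i : Y → X}
    (hi : IsEmbedding i) (hr : Set.range i = f ⁻¹' PrimeSpectrum.zeroLocus (I : Set A)) :
    Function.Bijective hi.continuous.connectedComponentsMap := by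
  haveI := spectralSpace I f
  have hZ : IsClosed (Set.range i) := hr ▸ (PrimeSpectrum.isClosed_zeroLocus _).preimage f.continuous
  have hconn : ∀ x, IsConnected (Set.range i ∩ closure {x}) := hr ▸ isConnected_inter_closure I f
  haveI : SpectralSpace (Set.range i) := SpecLib.spectralSpace_of_cc (SpecLib.cc_of_isClosed hZ)
  haveI : CompactSpace Y := hi.toHomeomorph.symm.compactSpace
  haveI : SpectralSpace Y := hi.toHomeomorph.isOpenEmbedding.spectralSpace
  refine ⟨fun a b hab => ?_, fun c => ?_⟩
  · obtain ⟨y, rfl⟩ := ConnectedComponents.surjective_coe a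
    obtain ⟨y', rfl⟩ := ConnectedComponents.surjective_coe b
    rw [Continuous.connectedComponentsMap_mk, Continuous.connectedComponentsMap_mk,
      ConnectedComponents.coe_eq_coe'] at hab
    rw [ConnectedComponents.coe_eq_coe', EtFound.SpectralPiZero.connectedComponent_eq_iInter_clopen, Set.mem_sInter]
    rintro C ⟨hC, hyC⟩
    have hcl : ∀ D : Set Y, IsClosed D → IsClosed (i '' D) := fun D hD => (IsClosedEmbedding.mk hi hZ).isClosedMap D hD
    obtain ⟨X₁, X₂, hX₁, hX₂, hd, hu, h1, h2⟩ := EtFound.SpectralPiZero.exists_lift_decomposition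
      (Set.range i) hconn (i '' C) (i '' Cᶜ) (hcl _ hC.isClosed) (hcl _ hC.compl.isClosed)
      (Set.disjoint_image_of_injective hi.injective disjoint_compl_right)
      (by rw [← Set.image_union, Set.union_compl_self, Set.image_univ])
    have hX : IsClopen X₁ := ⟨hX₁, by
      have : X₁ = X₂ᶜ := (IsCompl.of_eq hd.eq_bot hu).eq_compl
      rw [this]; exact hX₂.isOpen_compl⟩
    obtain ⟨u, hu', hiu⟩ : i y ∈ i '' C := by
      have h3 : i y' ∈ X₁ := ((h1 ▸ Set.mem_image_of_mem i hyC : i y' ∈ Set.range i ∩ X₁)).2
      exact h1.symm ▸ ⟨Set.mem_range_self y, hX.connectedComponent_subset h3 hab⟩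
    exact hi.injective hiu ▸ hu'
  · obtain ⟨x, rfl⟩ := ConnectedComponents.surjective_coe c
    obtain ⟨_, ⟨y, rfl⟩, hy⟩ := (hconn x).nonempty
    refine ⟨ConnectedComponents.mk y, ?_⟩
    rw [Continuous.connectedComponentsMap_mk, ConnectedComponents.coe_eq_coe']
    exact isPreconnected_singleton.closure.subset_connectedComponent (subset_closure rfl) hy

end Groth.Agent.EtPBC63.Conn
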