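import Groth.Agent.EtPBC63.Conn.Reduce
import Mathlib.AlgebraicGeometry.FunctionField
import Mathlib.AlgebraicGeometry.ValuativeCriterion
import Mathlib.RingTheory.Idempotents

/-!
# An integral scheme proper over a henselian pair has connected closed part
-/

universe u

open CategoryTheory CategoryTheory.Limits AlgebraicGeometry Topology

namespace Groth.Agent.EtPBC63.Conn

variable {A : Type u} [CommRing A] {W : Scheme.{u}} [IsIntegral W] (f : W ⟶ Spec (CommRingCat.of A))

/-- The structure map to the function field. -/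
noncomputable def φK : A →+* W.functionField :=
  (W.presheaf.germ ⊤ (genericPoint W) trivial).hom.comp (HensCouple7.toΓ f)

/-- The centre of a valuation ring on an affine open whose sections it contains. -/
noncomputable def centre {U : W.Opens} (hU : IsAffineOpen U) [Nonempty U] (V : ValuationSubring W.functionField)
    (hV : ∀ s, (W.germToFunctionField U) s ∈ V) : Spec (CommRingCat.of V) ⟶ W :=
  Spec.map (CommRingCat.ofHom ((W.germToFunctionField U).hom.codRestrict V.toSubring hV :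
    Γ(W, U) →+* V)) ≫ hU.fromSpec

theorem genericPoint_mem (U : W.Opens) [h : Nonempty U] : genericPoint W ∈ U :=
  ((genericPoint_spec W).mem_open_set_iff U.isOpen).mpr (by simpa using h)

theorem specMap_subtype_centre {U : W.Opens} (hU : IsAffineOpen U) [Nonempty U]
    (V : ValuationSubring W.functionField) (hV : ∀ s, (W.germToFunctionField U) s ∈ V) :
    Spec.map (CommRingCat.ofHom (algebraMap V W.functionField)) ≫ centre hU V hV =
      W.fromSpecStalk (genericPoint W) := by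
  rw [centre, ← Category.assoc, ← Spec.map_comp, ← hU.fromSpecStalk_eq_fromSpecStalk (genericPoint_mem U)]
  rfl

theorem mem_centre {U : W.Opens} (hU : IsAffineOpen U) [Nonempty U]
    (V : ValuationSubring W.functionField) (hV : ∀ s, (W.germToFunctionField U) s ∈ V) (s : Γ(W, U)) :
    centre hU V hV (IsLocalRing.closedPoint V) ∈ U ∧
      (centre hU V hV (IsLocalRing.closedPoint V) ∈ W.basicOpen s ↔
        (W.germToFunctionField U) s ∉ V.nonunits) := by
  constructor
  · rw [← SetLike.mem_coe, ← hU.range_fromSpec]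
    exact ⟨_, rfl⟩
  · show hU.fromSpec (Spec.map (CommRingCat.ofHom _) (IsLocalRing.closedPoint V)) ∈ _ ↔ _
    refine (iff_of_eq (congr(_ ∈ $(hU.fromSpec_preimage_basicOpen s)))).trans ?_
    show ¬ ((W.germToFunctionField U).hom.codRestrict V.toSubring hV s : V) ∈ IsLocalRing.maximalIdeal V ↔ _
    exact not_congr V.coe_mem_nonunits_iff.symm

variable {f}

theorem centre_comp {U : W.Opens} (hU : IsAffineOpen U) [Nonempty U]
    (V : ValuationSubring W.functionField) (hV : ∀ s, (W.germToFunctionField U) s ∈ V) :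
    centre hU V hV ≫ f = Spec.map (CommRingCat.ofHom ((φK f).codRestrict V.toSubring (fun a => by
      show (W.presheaf.germ ⊤ (genericPoint W) trivial) (HensCouple7.toΓ f a) ∈ V
      have h := congr($(W.presheaf.germ_res (homOfLE (le_top : U ≤ ⊤)) (genericPoint W) (genericPoint_mem U)).hom
        (HensCouple7.toΓ f a))
      exact h ▸ hV _) : A →+* V)) := by
  have h1 : hU.fromSpec ≫ f =
      Spec.map (CommRingCat.ofHom (HensCouple7.toΓ f) ≫ W.presheaf.map (homOfLE (le_top : U ≤ ⊤)).op) := by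
    conv_lhs => rw [← HensCouple7.toSpecΓ_comp f, ← Category.assoc, hU.fromSpec_toSpecΓ]
    rw [Spec.map_comp]
  rw [centre, Category.assoc, h1, ← Spec.map_comp]
  congr 1
  ext a
  exact congr($(W.presheaf.germ_res (homOfLE (le_top : U ≤ ⊤)) (genericPoint W) (genericPoint_mem U)).hom
    (HensCouple7.toΓ f a))

variable (f)

/-- The standard valuative square. -/
theorem square (V : ValuationSubring W.functionField) (hA : ∀ a, φK f a ∈ V) :
    CommSq (W.fromSpecStalk (genericPoint W)) (Spec.map (CommRingCat.ofHom (algebraMap V W.functionField)))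
      f (Spec.map (CommRingCat.ofHom ((φK f).codRestrict V.toSubring hA : A →+* V))) := by
  constructor
  conv_lhs => rw [← HensCouple7.toSpecΓ_comp f, ← Category.assoc, Scheme.fromSpecStalk_toSpecΓ, ← Spec.map_comp]
  refine Eq.trans ?_ (Spec.map_comp _ _)
  rfl

variable [IsSeparated f] [UniversallyClosed f]

include f in
/-- Centres are unique. -/
theorem centre_eq {U U' : W.Opens} (hU : IsAffineOpen U) (hU' : IsAffineOpen U') [Nonempty U] [Nonempty U']
    (V : ValuationSubring W.functionField) (hV : ∀ s, (W.germToFunctionField U) s ∈ V)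
    (hV' : ∀ s, (W.germToFunctionField U') s ∈ V) :
    centre hU V hV = centre hU' V hV' := by
  have hA : ∀ a, φK f a ∈ V := fun a => by
    show (W.presheaf.germ ⊤ (genericPoint W) trivial) (HensCouple7.toΓ f a) ∈ V
    have h := congr($(W.presheaf.germ_res (homOfLE (le_top : U ≤ ⊤)) (genericPoint W) (genericPoint_mem U)).hom
      (HensCouple7.toΓ f a))
    exact h ▸ hV _
  haveI : IsFractionRing V W.functionField := inferInstance
  let S : ValuativeCommSq f := { R := V, K := W.functionField, i₁ := _, i₂ := _, commSq := square f V hA }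
  have := (IsSeparated.valuativeCriterion f) S
  exact congrArg CommSq.LiftStruct.l (Subsingleton.elim
    (α := S.commSq.LiftStruct)
    ⟨centre hU V hV, specMap_subtype_centre hU V hV, centre_comp hU V hV⟩
    ⟨centre hU' V hV', specMap_subtype_centre hU' V hV', centre_comp hU' V hV'⟩)

/-- An affine open containing the centre contains the sections. -/
theorem exists_affine_sections {ι : Type*} (U : ι → W.Opens) (hU : ∀ i, IsAffineOpen (U i))
    [∀ i, Nonempty (U i)] (hcov : ⨆ i, U i = ⊤) (V : ValuationSubring W.functionField)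
    (hA : ∀ a, φK f a ∈ V) : ∃ i, ∀ s, (W.germToFunctionField (U i)) s ∈ V := by
  let S : ValuativeCommSq f := { R := V, K := W.functionField, i₁ := _, i₂ := _, commSq := square f V hA }
  have hE : ValuativeCriterion.Existence f := by
    have h : (@UniversallyClosed : MorphismProperty Scheme.{u}) f := (inferInstance : UniversallyClosed f)
    rw [UniversallyClosed.eq_valuativeCriterion] at h
    exact h.1
  obtain ⟨⟨l, hl, -⟩⟩ := (hE S).exists_lift
  obtain ⟨i, hi⟩ := TopologicalSpace.Opens.mem_iSup.mp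
    (show l (IsLocalRing.closedPoint V) ∈ ⨆ i, U i by rw [hcov]; trivial)
  have hsub : Set.range l ⊆ Set.range (hU i).fromSpec := by
    rintro _ ⟨p, rfl⟩
    rw [(hU i).range_fromSpec]
    exact ((IsLocalRing.specializes_closedPoint p).map l.continuous).mem_open (U i).isOpen hi
  let m := Spec.preimage (IsOpenImmersion.lift (hU i).fromSpec l hsub)
  have hm : Spec.map m ≫ (hU i).fromSpec = l := by
    rw [Spec.map_preimage, IsOpenImmersion.lift_fac]
  have he : m ≫ CommRingCat.ofHom (algebraMap V W.functionField) = W.germToFunctionField (U i) := by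
    refine Spec.map_injective ((cancel_mono (hU i).fromSpec).mp ?_)
    rw [Spec.map_comp, Category.assoc, hm, hl]
    exact ((hU i).fromSpecStalk_eq_fromSpecStalk (genericPoint_mem (U i))).symm
  exact ⟨i, fun s => by
    rw [← he]
    exact SetLike.coe_mem (m.hom s : V)⟩

/-- Every point is the centre of a valuation ring. -/
theorem exists_centred {U : W.Opens} (hU : IsAffineOpen U) [Nonempty U] {w : W} (hw : w ∈ U) :
    ∃ (V : ValuationSubring W.functionField) (hV : ∀ s, (W.germToFunctionField U) s ∈ V),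
      centre hU V hV (IsLocalRing.closedPoint V) = w := by
  let g := (W.germToFunctionField U).hom
  have hinj : Function.Injective g := W.germToFunctionField_injective U
  let p := hU.primeIdealOf ⟨w, hw⟩
  let e : Γ(W, U) ≃+* g.range := RingEquiv.ofBijective g.rangeRestrict
    ⟨fun a b h => hinj (congrArg Subtype.val h), g.rangeRestrict_surjective⟩
  let P : Ideal g.range := p.asIdeal.comap e.symm
  haveI : P.IsPrime := Ideal.comap_isPrime _ _
  obtain ⟨V, hV⟩ := (LocalSubring.ofPrime g.range P).exists_le_valuationSubring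
  have hV' : ∀ s, g s ∈ V := fun s => hV.1 (LocalSubring.le_ofPrime g.range P ⟨s, rfl⟩)
  refine ⟨V, hV', ?_⟩
  have hp : ∀ s, s ∈ p.asIdeal ↔ g s ∈ V.nonunits := fun s => by
    have hs : s ∈ p.asIdeal ↔ (e s) ∈ P := by simp [P]
    rw [hs]
    haveI := hV.2
    let j : g.range →+* V := Subring.inclusion ((LocalSubring.le_ofPrime g.range P).trans hV.1)
    have key : j (e s) ∈ IsLocalRing.maximalIdeal V ↔ e s ∈ P := by
      rw [← IsLocalization.AtPrime.to_map_mem_maximal_iff (LocalSubring.ofPrime g.range P).toSubring P]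
      show ¬ IsUnit (Subring.inclusion hV.1 (algebraMap g.range (LocalSubring.ofPrime g.range P).toSubring (e s))) ↔
        ¬ IsUnit _
      exact (isUnit_map_iff (Subring.inclusion hV.1) _).not
    rw [← key, ← V.coe_mem_nonunits_iff]
    rfl
  have h2 : (Spec.map (CommRingCat.ofHom (g.codRestrict V.toSubring hV' : Γ(W, U) →+* V)))
      (IsLocalRing.closedPoint V) = p := by
    refine PrimeSpectrum.ext (Ideal.ext fun s => ?_)
    rw [hp s]
    exact V.coe_mem_nonunits_iff.symm
  exact (congrArg hU.fromSpec h2).trans (hU.fromSpec_primeIdealOf ⟨w, hw⟩)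

/-- An integral scheme, integral over a scheme proper over a henselian pair, meets `V(I)` in a connected
set. -/
theorem isPreconnected_closed_part_of_integral {X₀ : Scheme.{u}} (π : W ⟶ X₀) [IsIntegralHom π]
    (f₀ : X₀ ⟶ Spec (CommRingCat.of A)) [IsProper f₀] (I : Ideal A) [HenselianRing A I] :
    _root_.IsPreconnected ((π ≫ f₀) ⁻¹' PrimeSpectrum.zeroLocus (I : Set A)) := by
  classical
  let f := π ≫ f₀
  set Z := f ⁻¹' PrimeSpectrum.zeroLocus (I : Set A) with hZdef
  haveI : CompactSpace X₀ := QuasiCompact.compactSpace_of_compactSpace f₀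
  obtain ⟨S, hS, hScov⟩ : ∃ S : Finset X₀.affineOpens, (∀ U ∈ S, Nonempty (π ⁻¹ᵁ U.1)) ∧
      ∀ w, ∃ U ∈ S, π w ∈ U.1 := by
    have hc : ∀ w : X₀, ∃ U : X₀.affineOpens, w ∈ U.1 := fun w => by
      obtain ⟨U, hU, hw, -⟩ := TopologicalSpace.Opens.isBasis_iff_nbhd.mp X₀.isBasis_affineOpens
        (TopologicalSpace.Opens.mem_top w)
      exact ⟨⟨U, hU⟩, hw⟩
    choose U hU using hc
    obtain ⟨t, ht⟩ := isCompact_univ.elim_finite_subcover (fun w => ((U w).1 : Set X₀)) (fun w => (U w).1.isOpen)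
      fun w _ => Set.mem_iUnion.mpr ⟨w, hU w⟩
    refine ⟨(t.image U).filter (fun V => Nonempty (π ⁻¹ᵁ V.1)), fun V hV => (Finset.mem_filter.mp hV).2, fun w => ?_⟩
    obtain ⟨v, hv, hw⟩ := Set.mem_iUnion₂.mp (ht (Set.mem_univ (π w)))
    exact ⟨U v, Finset.mem_filter.mpr ⟨Finset.mem_image_of_mem U hv, ⟨⟨w, hw⟩⟩⟩, hw⟩
  let ι := Fin S.card
  let U₀ : ι → X₀.Opens := fun i => (S.equivFin.symm i).1.1
  have hU₀ : ∀ i, IsAffineOpen (U₀ i) := fun i => (S.equivFin.symm i).1.2
  let U : ι → W.Opens := fun i => π ⁻¹ᵁ U₀ i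
  have hU : ∀ i, IsAffineOpen (U i) := fun i => (hU₀ i).preimage π
  haveI : ∀ i, Nonempty (U i) := fun i => hS _ (S.equivFin.symm i).2
  have hcov : ⨆ i, U i = ⊤ := eq_top_iff.mpr fun w _ => by
    obtain ⟨V, hV, hw⟩ := hScov w
    exact TopologicalSpace.Opens.mem_iSup.mpr ⟨S.equivFin ⟨V, hV⟩, by simpa [U, U₀] using hw⟩
  let K := W.functionField
  let g : ∀ i, Γ(W, U i) →+* K := fun i => (W.germToFunctionField (U i)).hom
  let r : ∀ i, A →+* Γ(W, U i) := fun i =>
    (W.presheaf.map (homOfLE (le_top : U i ≤ ⊤)).op).hom.comp (HensCouple7.toΓ f)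
  have hgr : ∀ i a, g i (r i a) = φK f a := fun i a =>
    congr($(W.presheaf.germ_res (homOfLE (le_top : U i ≤ ⊤)) (genericPoint W) (genericPoint_mem (U i))).hom
      (HensCouple7.toΓ f a))
  have hmem : ∀ i w, w ∈ U i → (w ∈ Z ↔ ∀ a ∈ I, w ∉ W.basicOpen (r i a)) := by
    intro i w hw
    refine forall₂_congr fun a _ => ?_
    show (a ∈ (f w).asIdeal ↔ _)
    rw [RingHom.comp_apply, Scheme.basicOpen_res, TopologicalSpace.Opens.mem_inf,
      HensCouple7.mem_basicOpen_toΓ]
    simp only [hw, true_and]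
    exact not_not.symm
  intro O₀ O₁ hO₀ hO₁ hsub ⟨z₀, hz₀, hz₀'⟩ ⟨z₁, hz₁, hz₁'⟩
  by_contra hne
  have hdisj : ∀ w ∈ Z, w ∈ O₀ → w ∉ O₁ := fun w hw h₀ h₁ => hne ⟨w, hw, h₀, h₁⟩
  have hidem : ∀ i, ∃ e : Γ(W, U i), ∀ w (hw : w ∈ U i), w ∈ Z →
      (w ∉ W.basicOpen (e * (1 - e)) ∧ (w ∈ W.basicOpen e ↔ w ∈ O₁)) := by
    intro i
    let Ri := Γ(W, U i)
    let J : Ideal Ri := I.map (r i)
    let q : PrimeSpectrum (Ri ⧸ J) → W := fun p => (hU i).fromSpec (PrimeSpectrum.comap (Ideal.Quotient.mk J) p)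
    have hq : Continuous q :=
      (hU i).fromSpec.continuous.comp (PrimeSpectrum.continuous_comap _)
    have hqU : ∀ p, q p ∈ U i := fun p => by
      rw [← SetLike.mem_coe, ← (hU i).range_fromSpec]
      exact Set.mem_range_self _
    have hqb : ∀ p (s : Ri), q p ∈ W.basicOpen s ↔ Ideal.Quotient.mk J s ∉ p.asIdeal := fun p s =>
      iff_of_eq (congr((PrimeSpectrum.comap (Ideal.Quotient.mk J) p) ∈ $((hU i).fromSpec_preimage_basicOpen s)))
    have hqZ : ∀ p, q p ∈ Z := fun p => (hmem i _ (hqU p)).mpr fun a ha h =>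
      (hqb p _).mp h (by rw [Ideal.Quotient.eq_zero_iff_mem.mpr (Ideal.mem_map_of_mem (r i) ha)]; exact zero_mem _)
    have hclop : IsClopen (q ⁻¹' O₁) := by
      refine ⟨⟨?_⟩, hO₁.preimage hq⟩
      have : (q ⁻¹' O₁)ᶜ = q ⁻¹' O₀ := Set.ext fun p =>
        ⟨fun h => (hsub (hqZ p)).resolve_right h, fun h => hdisj _ (hqZ p) h⟩
      rw [this]
      exact hO₀.preimage hq
    obtain ⟨ē, hē, hē'⟩ := PrimeSpectrum.exists_idempotent_basicOpen_eq_of_isClopen hclop
    obtain ⟨e, rfl⟩ := Ideal.Quotient.mk_surjective ē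
    refine ⟨e, fun w hw hwZ => ?_⟩
    let pw := (hU i).primeIdealOf ⟨w, hw⟩
    have hJ : J ≤ pw.asIdeal := Ideal.map_le_iff_le_comap.mpr fun a ha => by
      by_contra h
      refine (hmem i w hw).mp hwZ a ha ?_
      exact ((hU i).fromSpec_primeIdealOf ⟨w, hw⟩).subst (motive := fun v => v ∈ W.basicOpen (r i a))
        ((iff_of_eq (congr(pw ∈ $((hU i).fromSpec_preimage_basicOpen (r i a))))).mpr h)
    let p : PrimeSpectrum (Ri ⧸ J) := ⟨pw.asIdeal.map (Ideal.Quotient.mk J),
      Ideal.map_isPrime_of_surjective Ideal.Quotient.mk_surjective (by rwa [Ideal.mk_ker])⟩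
    have hp : q p = w := by
      refine Eq.trans ?_ ((hU i).fromSpec_primeIdealOf ⟨w, hw⟩)
      show (hU i).fromSpec _ = _
      congr 1
      refine PrimeSpectrum.ext ?_
      show (pw.asIdeal.map (Ideal.Quotient.mk J)).comap (Ideal.Quotient.mk J) = pw.asIdeal
      rw [Ideal.comap_map_of_surjective _ Ideal.Quotient.mk_surjective, ← RingHom.ker_eq_comap_bot, Ideal.mk_ker]
      exact sup_eq_left.mpr hJ
    constructor
    · rw [← hp, hqb, not_not, map_mul, map_sub, map_one, mul_sub, mul_one, hē.eq, sub_self]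
      exact zero_mem _
    · rw [← hp, hqb]
      exact (iff_of_eq (congr(p ∈ $hē'))).symm
  choose e he using hidem
  let r₀ : ∀ i, A →+* Γ(X₀, U₀ i) := fun i =>
    (X₀.presheaf.map (homOfLE (le_top : U₀ i ≤ ⊤)).op).hom.comp (HensCouple7.toΓ f₀)
  have hr₀ : ∀ i a, π.app (U₀ i) (r₀ i a) = r i a := fun i a =>
    congr($(Scheme.Hom.naturality π (homOfLE (le_top : U₀ i ≤ ⊤)).op).hom (HensCouple7.toΓ f₀ a))
  have hft : ∀ i, (r₀ i).FiniteType := fun i => by
    have h := Scheme.Hom.finiteType_appLE f₀ (isAffineOpen_top _) (hU₀ i) (le_top : U₀ i ≤ f₀ ⁻¹ᵁ ⊤)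
    have : r₀ i = (f₀.appLE ⊤ (U₀ i) le_top).hom.comp (Scheme.ΓSpecIso (CommRingCat.of A)).inv.hom := rfl
    rw [this]
    exact h.comp (RingHom.FiniteType.of_surjective _
      (ConcreteCategory.bijective_of_isIso (Scheme.ΓSpecIso (CommRingCat.of A)).inv).2)
  have hgen : ∀ i, ∃ G : Finset Γ(W, U i),
      (∀ s, g i (π.app (U₀ i) s) ∈ Subring.closure (Set.range (φK f) ∪ g i '' G)) := by
    intro i
    letI := (r₀ i).toAlgebra
    obtain ⟨G, hG⟩ := (hft i).1
    refine ⟨G.image (π.app (U₀ i)), fun s => ?_⟩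
    have hs : s ∈ Algebra.adjoin A (G : Set Γ(X₀, U₀ i)) := hG ▸ Algebra.mem_top
    induction hs using Algebra.adjoin_induction with
    | mem y hy => exact Subring.subset_closure (Or.inr ⟨_, Finset.mem_coe.mpr (Finset.mem_image_of_mem _ hy), rfl⟩)
    | algebraMap a => exact Subring.subset_closure (Or.inl ⟨a, ((congrArg (g i) (hr₀ i a)).trans (hgr i a)).symm⟩)
    | add y z _ _ hy hz => simpa using add_mem hy hz
    | mul y z _ _ hy hz => simpa using mul_mem hy hz
  choose G₀ hG₀ using hgen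
  let G : ∀ i, Finset Γ(W, U i) := fun i => (insert (e i) (G₀ i)).erase 0
  let σ := Σ i : ι, Fin (G i).card
  let x : σ → K := fun k => g k.1 ((G k.1).equivFin.symm k.2).1
  let B : ι → Finset σ := fun i => Finset.univ.filter fun k => k.1 = i
  have hx : ∀ k, x k ≠ 0 := fun k => (map_ne_zero_iff _ (W.germToFunctionField_injective (U k.1))).mpr
    (Finset.mem_erase.mp ((G k.1).equivFin.symm k.2).2).1
  have hins : ∀ i y, y ∈ insert (e i) (G₀ i) → g i y ∈ Subring.closure (Set.range (φK f) ∪ x '' B i) := by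
    intro i y hy
    by_cases h0 : y = 0
    · simp [h0, zero_mem]
    · exact Subring.subset_closure (Or.inr ⟨⟨i, (G i).equivFin ⟨y, Finset.mem_erase.mpr ⟨h0, hy⟩⟩⟩,
        by simp [B], by simp [x]⟩)
  have hclo₀ : ∀ i s, g i (π.app (U₀ i) s) ∈ Subring.closure (Set.range (φK f) ∪ x '' B i) := fun i s => by
    refine (Subring.closure_le.mpr ?_) (hG₀ i s)
    rintro _ (⟨a, rfl⟩ | ⟨y, hy, rfl⟩)
    exacts [Subring.subset_closure (Or.inl ⟨a, rfl⟩), hins i y (Finset.mem_insert_of_mem hy)]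
  have hblk : ∀ i (V : ValuationSubring K), (∀ a, φK f a ∈ V) → (∀ k ∈ B i, x k ∈ V) → ∀ s, g i s ∈ V := by
    intro i V hA hV s
    have hbase : ∀ s₀, ((g i).comp (π.app (U₀ i)).hom) s₀ ∈ V.toSubring := fun s₀ => by
      refine (Subring.closure_le (t := V.toSubring)).mpr ?_ (hclo₀ i s₀)
      rintro _ (⟨a, rfl⟩ | ⟨k, hk, rfl⟩)
      exacts [hA a, hV k hk]
    obtain ⟨P, hP, hPs⟩ := π.isIntegral_app (U₀ i) (hU₀ i) s
    let ψ : Γ(X₀, U₀ i) →+* V := ((g i).comp (π.app (U₀ i)).hom).codRestrict V.toSubring hbase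
    have hint : IsIntegral V (g i s) := by
      refine ⟨P.map ψ, hP.map ψ, ?_⟩
      rw [Polynomial.eval₂_map]
      show P.eval₂ ((g i).comp (π.app (U₀ i)).hom) (g i s) = 0
      rw [← Polynomial.hom_eval₂, hPs, map_zero]
    obtain ⟨y, hy⟩ := IsIntegrallyClosed.isIntegral_iff.mp hint
    exact hy ▸ y.2
  have hxg : ∀ i (V : ValuationSubring K), (∀ s, g i s ∈ V) → ∀ k ∈ B i, x k ∈ V := by
    intro i V hV k hk
    obtain ⟨-, rfl⟩ := Finset.mem_filter.mp hk
    exact hV _
  have hkey : ∀ (V : ValuationSubring K) i, (∀ a ∈ I, φK f a ∈ V.nonunits) → ∀ hV : ∀ s, g i s ∈ V,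
      g i (e i) * (1 - g i (e i)) ∈ V.nonunits ∧
        (g i (e i) ∉ V.nonunits ↔ centre (hU i) V hV (IsLocalRing.closedPoint V) ∈ O₁) := by
    intro V i hI hV
    have hwU := (mem_centre (hU i) V hV 0).1
    have hwZ : centre (hU i) V hV (IsLocalRing.closedPoint V) ∈ Z := (hmem i _ hwU).mpr fun a ha h =>
      (mem_centre (hU i) V hV _).2.mp h ((hgr i a).symm ▸ hI a ha)
    obtain ⟨h1, h2⟩ := he i _ hwU hwZ
    refine ⟨?_, ((mem_centre (hU i) V hV _).2).symm.trans h2⟩
    by_contra h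
    refine h1 ((mem_centre (hU i) V hV _).2.mpr ?_)
    rwa [map_mul, map_sub, map_one]
  have hnu_sub : ∀ (V : ValuationSubring K) (a : K), a ∈ V → a * (1 - a) ∈ V.nonunits → a ∉ V.nonunits →
      a - 1 ∈ V.nonunits := by
    intro V a ha h hna
    obtain ⟨h', hm⟩ := V.mem_nonunits_iff_exists_mem_maximalIdeal.mp h
    have hm' : (⟨a, ha⟩ : V) * (1 - ⟨a, ha⟩) ∈ IsLocalRing.maximalIdeal V := hm
    rcases (IsLocalRing.maximalIdeal.isMaximal V).isPrime.mem_or_mem hm' with h2 | h2
    · exact absurd (V.coe_mem_nonunits_iff.mpr h2) hna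
    · have h3 := V.coe_mem_nonunits_iff.mpr (neg_mem h2)
      simpa using h3
  obtain ⟨i₀, hi₀⟩ := TopologicalSpace.Opens.mem_iSup.mp (show z₀ ∈ ⨆ i, U i by rw [hcov]; trivial)
  obtain ⟨i₁, hi₁⟩ := TopologicalSpace.Opens.mem_iSup.mp (show z₁ ∈ ⨆ i, U i by rw [hcov]; trivial)
  obtain ⟨V₀, hV₀, hc₀⟩ := exists_centred (hU i₀) hi₀
  obtain ⟨V₁, hV₁, hc₁⟩ := exists_centred (hU i₁) hi₁
  have hA₀ : ∀ a, φK f a ∈ V₀ := fun a => hgr i₀ a ▸ hV₀ _
  have hA₁ : ∀ a, φK f a ∈ V₁ := fun a => hgr i₁ a ▸ hV₁ _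
  have hI₀ : ∀ a ∈ I, φK f a ∈ V₀.nonunits := fun a ha => by
    by_contra h
    exact (hmem i₀ z₀ hi₀).mp hz₀ a ha (hc₀ ▸ (mem_centre (hU i₀) V₀ hV₀ _).2.mpr ((hgr i₀ a).symm ▸ h))
  have hI₁ : ∀ a ∈ I, φK f a ∈ V₁.nonunits := fun a ha => by
    by_contra h
    exact (hmem i₁ z₁ hi₁).mp hz₁ a ha (hc₁ ▸ (mem_centre (hU i₁) V₁ hV₁ _).2.mpr ((hgr i₁ a).symm ▸ h))
  have hfin : g i₁ (e i₁) ∈ V₁.nonunits := by
    refine idem_const (φK f) I x hx B (fun i => g i (e i)) (fun i => hins i _ (Finset.mem_insert_self _ _)) (fun V hV => ?_)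
      (fun V i hA hI hi => (hkey V i hI (hblk i V hA hi)).1) (fun V i j hA hI hi hj => ?_)
      V₀ V₁ hA₀ hA₁ hI₀ hI₁ i₀ i₁ (hxg i₀ V₀ hV₀) (hxg i₁ V₁ hV₁) ?_
    · obtain ⟨i, hi⟩ := exists_affine_sections f U hU hcov V hV
      exact ⟨i, hxg i V hi⟩
    · have hgi := hblk i V hA hi
      have hgj := hblk j V hA hj
      obtain ⟨hi1, hi2⟩ := hkey V i hI hgi
      obtain ⟨hj1, hj2⟩ := hkey V j hI hgj
      rw [← centre_eq f (hU i) (hU j) V hgi hgj, ← hi2, not_iff_not] at hj2
      by_cases h : g i (e i) ∈ V.nonunits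
      · exact sub_mem h (hj2.mpr h)
      · simpa using sub_mem (hnu_sub V _ (hgi _) hi1 h) (hnu_sub V _ (hgj _) hj1 fun h' => h (hj2.mp h'))
    · by_contra h
      exact hdisj z₀ hz₀ hz₀' (hc₀ ▸ (hkey V₀ i₀ hI₀ hV₀).2.mp h)
  exact (hkey V₁ i₁ hI₁ hV₁).2.mpr (hc₁ ▸ hz₁') hfin

omit [IsSeparated f] [UniversallyClosed f] in
/-- An integral scheme proper over a henselian pair meets `V(I)` in a connected set. -/
theorem isPreconnected_closed_part [IsProper f] (I : Ideal A) [HenselianRing A I] :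
    _root_.IsPreconnected (f ⁻¹' PrimeSpectrum.zeroLocus (I : Set A)) := by
  have h := isPreconnected_closed_part_of_integral (𝟙 W) f I
  rwa [Category.id_comp] at h

end Groth.Agent.EtPBC63.Conn
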