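import Groth.Agent.HensCouple7.ProperPair
import Mathlib.AlgebraicGeometry.ProjectiveSpectrum.Proper
import Mathlib.RingTheory.MvPolynomial.Homogeneous
import Mathlib.RingTheory.Valuation.LocalSubring

/-!
# Valuations of a field over a Noetherian henselian pair

Given finitely many blocks of nonzero elements of a field `K` over a Noetherian henselian pair `(A, I)`
such that every valuation ring over `A` contains a block, and idempotents modulo the valuation ideals
which agree between blocks, the idempotent takes the same value at all valuations centred in `V(I)`.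
The proof uses the closure of the point in projective space with coordinates all monomials in the
elements.
-/

universe u

open CategoryTheory AlgebraicGeometry MvPolynomial

namespace Groth.Agent.EtPBC63.Conn

attribute [local instance] MvPolynomial.gradedAlgebra

variable {A : Type u} [CommRing A]

section graded

variable {τ : Type} {R : Type u} [CommRing R]

/-- Evaluation into polynomials, remembering the degree. -/
noncomputable def gev (θ : A →+* R) (w : τ → R) : MvPolynomial τ A →+* Polynomial R :=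
  eval₂Hom (Polynomial.C.comp θ) fun i => Polynomial.C (w i) * Polynomial.X

theorem gev_homogeneous (θ : A →+* R) (w : τ → R) {p : MvPolynomial τ A} {n : ℕ} (hp : p.IsHomogeneous n) :
    gev θ w p = Polynomial.C (eval₂Hom θ w p) * Polynomial.X ^ n := by
  classical
  conv_lhs => rw [p.as_sum]
  conv_rhs => rw [p.as_sum]
  simp only [map_sum, Finset.sum_mul]
  refine Finset.sum_congr rfl fun d hd => ?_
  have hdeg : d.degree = n := by
    rw [Finsupp.degree_eq_weight_one]
    exact hp (MvPolynomial.mem_support_iff.mp hd)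
  simp only [gev, coe_eval₂Hom, eval₂_monomial, RingHom.comp_apply, map_mul, map_finsuppProd, map_pow, mul_pow]
  rw [Finsupp.prod_mul, mul_assoc]
  congr 2
  rw [Finsupp.prod, Finset.prod_pow_eq_pow_sum, ← hdeg, Finsupp.degree_apply]

theorem coeff_gev (θ : A →+* R) (w : τ → R) (p : MvPolynomial τ A) (n : ℕ) :
    (gev θ w p).coeff n = eval₂Hom θ w (homogeneousComponent n p) := by
  classical
  conv_lhs => rw [← p.sum_homogeneousComponent]
  simp only [map_sum, Polynomial.finsetSum_coeff,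
    gev_homogeneous θ w (homogeneousComponent_isHomogeneous _ p), Polynomial.coeff_C_mul_X_pow]
  rw [Finset.sum_eq_single n (fun b _ hb => if_neg (Ne.symm hb)) fun hn => ?_, if_pos rfl]
  rw [if_pos rfl, homogeneousComponent_eq_zero, map_zero]
  simp only [Finset.mem_range, not_lt] at hn
  omega

variable [IsDomain R]

/-- The homogeneous prime ideal cut out by coordinates in a domain. -/
noncomputable def gker (θ : A →+* R) (w : τ → R) : HomogeneousIdeal (homogeneousSubmodule τ A) :=
  ⟨RingHom.ker (gev θ w), fun i p hp => by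
    have h : eval₂Hom θ w (homogeneousComponent i p) = 0 := by
      rw [← coeff_gev, RingHom.mem_ker.mp hp, Polynomial.coeff_zero]
    rw [RingHom.mem_ker]
    show gev θ w ((DirectSum.decompose (homogeneousSubmodule τ A) p i : MvPolynomial τ A)) = 0
    erw [MvPolynomial.decomposition.decompose'_apply]
    rw [gev_homogeneous θ w (homogeneousComponent_isHomogeneous _ p), h, map_zero, zero_mul]⟩

theorem mem_gker_iff (θ : A →+* R) (w : τ → R) {p : MvPolynomial τ A} {n : ℕ} (hp : p.IsHomogeneous n) :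
    p ∈ gker θ w ↔ eval₂Hom θ w p = 0 := by
  show p ∈ RingHom.ker (gev θ w) ↔ _
  rw [RingHom.mem_ker, gev_homogeneous θ w hp, mul_eq_zero, Polynomial.C_eq_zero,
    or_iff_left (pow_ne_zero _ Polynomial.X_ne_zero)]

/-- The point of projective space with given coordinates. -/
noncomputable def pt (θ : A →+* R) (w : τ → R) {i : τ} (hi : w i ≠ 0) :
    ProjectiveSpectrum (homogeneousSubmodule τ A) where
  asHomogeneousIdeal := gker θ w
  isPrime := RingHom.ker_isPrime (gev θ w)
  not_irrelevant_le h := hi <| by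
    have hX : (X i : MvPolynomial τ A) ∈ gker θ w :=
      h (HomogeneousIdeal.mem_irrelevant_of_mem _ one_pos (isHomogeneous_X A i))
    simpa using (mem_gker_iff θ w (isHomogeneous_X A i)).mp hX

end graded

section proper

variable {τ : Type} [Finite τ]

/-- The structure map of projective space over `A`. -/
noncomputable abbrev str (τ : Type) (A : Type u) [CommRing A] :
    Proj (homogeneousSubmodule τ A) ⟶ Spec (CommRingCat.of A) :=
  Proj.toSpecZero (homogeneousSubmodule τ A) ≫
    Spec.map (CommRingCat.ofHom (algebraMap A (homogeneousSubmodule τ A 0)))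

theorem isProper_str : IsProper (str τ A) := by
  haveI : IsScalarTower A (homogeneousSubmodule τ A 0) (MvPolynomial τ A) :=
    IsScalarTower.of_algebraMap_eq' (R := A) (S := homogeneousSubmodule τ A 0) (A := MvPolynomial τ A)
      (RingHom.ext fun _ => rfl)
  haveI : Algebra.FiniteType (homogeneousSubmodule τ A 0) (MvPolynomial τ A) :=
    Algebra.FiniteType.of_restrictScalars_finiteType A _ _
  haveI : IsIso (CommRingCat.ofHom (algebraMap A (homogeneousSubmodule τ A 0))) := by
    rw [ConcreteCategory.isIso_iff_bijective]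
    refine ⟨fun a b h => MvPolynomial.C_injective _ _ (congrArg Subtype.val h), fun ⟨p, hp⟩ => ?_⟩
    exact ⟨p.coeff 0, Subtype.ext (MvPolynomial.totalDegree_eq_zero_iff_eq_C.1
      (Nat.le_zero.1 ((MvPolynomial.mem_homogeneousSubmodule _ _).1 hp).totalDegree_le)).symm⟩
  exact MorphismProperty.comp_mem @IsProper _ _
    (inferInstance : IsProper (Proj.toSpecZero (homogeneousSubmodule τ A))) inferInstance

omit [Finite τ] in
/-- Some coordinate does not vanish at a point. -/
theorem exists_X_notMem (q : ProjectiveSpectrum (homogeneousSubmodule τ A)) :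
    ∃ i : τ, (X i : MvPolynomial τ A) ∉ q.asHomogeneousIdeal := by
  by_contra! h
  refine q.not_irrelevant_le fun p hp => ?_
  have hspan : p ∈ Ideal.span (X '' (Set.univ : Set τ) : Set (MvPolynomial τ A)) := by
    rw [mem_ideal_span_X_image]
    intro m hm
    by_contra! hm0
    have hm' : m = 0 := Finsupp.ext fun i => hm0 i (Set.mem_univ i)
    have h0 : homogeneousComponent 0 p = 0 := by
      rw [← MvPolynomial.decomposition.decompose'_apply]
      exact hp
    rw [homogeneousComponent_zero, map_eq_zero_iff _ (C_injective _ _)] at h0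
    exact MvPolynomial.mem_support_iff.mp hm (hm' ▸ h0)
  exact (Ideal.span_le.mpr (by rintro _ ⟨i, -, rfl⟩; exact h i) :
    Ideal.span (X '' (Set.univ : Set τ)) ≤ q.asHomogeneousIdeal.toIdeal) hspan

omit [Finite τ] in
theorem str_mem_basicOpen (q : Proj (homogeneousSubmodule τ A)) (a : A) :
    str τ A q ∈ PrimeSpectrum.basicOpen a ↔
      (C a : MvPolynomial τ A) ∉ (show ProjectiveSpectrum (homogeneousSubmodule τ A) from q).asHomogeneousIdeal := by
  obtain ⟨i, hi⟩ := exists_X_notMem (show ProjectiveSpectrum (homogeneousSubmodule τ A) from q)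
  have hX : (X i : MvPolynomial τ A) ∈ homogeneousSubmodule τ A 1 := isHomogeneous_X A i
  have hg : (C a * X i : MvPolynomial τ A) ∈ homogeneousSubmodule τ A 1 := by
    simpa using (isHomogeneous_C τ a).mul (isHomogeneous_X A i)
  have hq : q ∈ (Proj.awayι (homogeneousSubmodule τ A) (X i) hX one_pos).opensRange := by
    rw [Proj.opensRange_awayι]
    exact hi
  obtain ⟨z, rfl⟩ := hq
  have h1 := congr(z ∈ $(Proj.awayι_preimage_basicOpen (homogeneousSubmodule τ A) hX one_pos hg one_pos))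
  have hel : HomogeneousLocalization.Away.isLocalizationElem hX hg =
      HomogeneousLocalization.fromZeroRingHom (homogeneousSubmodule τ A) (Submonoid.powers (X i))
        (algebraMap A (homogeneousSubmodule τ A 0) a) := by
    apply HomogeneousLocalization.val_injective
    erw [HomogeneousLocalization.val_mk, HomogeneousLocalization.val_mk]
    refine Localization.mk_eq_mk_iff.mpr (Localization.r_iff_exists.mpr ⟨1, ?_⟩)
    show 1 * (1 * (C a * X i) ^ 1) = 1 * ((X i) ^ 1 * C a)
    ring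
  have h2 : (str τ A) (Proj.awayι (homogeneousSubmodule τ A) (X i) hX one_pos z) ∈ PrimeSpectrum.basicOpen a ↔
      z ∈ PrimeSpectrum.basicOpen (HomogeneousLocalization.fromZeroRingHom (homogeneousSubmodule τ A)
        (Submonoid.powers (X i)) (algebraMap A (homogeneousSubmodule τ A 0) a)) := by
    rw [← Scheme.Hom.comp_apply, str, Proj.awayι_toSpecZero_assoc, ← Spec.map_comp]
    rfl
  rw [h2, ← hel, ← SetLike.mem_coe]
  refine (iff_of_eq h1).symm.trans ?_
  show (C a * X i : MvPolynomial τ A) ∉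
    (show ProjectiveSpectrum (homogeneousSubmodule τ A) from _).asHomogeneousIdeal ↔ _
  constructor
  · exact fun h hc => h (Ideal.mul_mem_right _ _ hc)
  · exact fun h hc => ((ProjectiveSpectrum.isPrime _).mem_or_mem hc).elim h hi

end proper

section val

variable {K : Type u} [Field K] (ψ : A →+* K) {σ : Type} [Fintype σ] [DecidableEq σ] (x : σ → K)

/-- The monomials. -/
def mono (S : Finset σ) : K := ∏ k ∈ S, x k

omit [Fintype σ] [DecidableEq σ] in
theorem mono_ne_zero (hx : ∀ k, x k ≠ 0) (S : Finset σ) : mono x S ≠ 0 :=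
  Finset.prod_ne_zero_iff.mpr fun k _ => hx k

/-- Evaluation at the monomials. -/
noncomputable abbrev ev : MvPolynomial (Finset σ) A →+* K := eval₂Hom ψ (mono x)

local notation "PS" => ProjectiveSpectrum (homogeneousSubmodule (Finset σ) A)

/-- The generic point. -/
noncomputable def gen : PS := pt ψ (mono x) (i := ∅) (by simp [mono])

/-- Fractions defined at a point. -/
def Lsub (q : PS) : Subring K where
  carrier := {r | ∃ (n : ℕ) (a b : MvPolynomial (Finset σ) A),
    a.IsHomogeneous n ∧ b.IsHomogeneous n ∧ b ∉ q.asHomogeneousIdeal ∧ r * ev ψ x b = ev ψ x a}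
  mul_mem' := by
    rintro r s ⟨n, a, b, ha, hb, hbq, h⟩ ⟨m, c, d, hc, hd, hdq, h'⟩
    exact ⟨n + m, a * c, b * d, ha.mul hc, hb.mul hd,
      fun hh => (q.isPrime.mem_or_mem hh).elim hbq hdq, by rw [map_mul, map_mul, ← h, ← h']; ring⟩
  one_mem' := ⟨0, 1, 1, isHomogeneous_one _ _, isHomogeneous_one _ _,
    fun h => q.isPrime.ne_top ((Ideal.eq_top_iff_one _).mpr h), by simp⟩
  add_mem' := by
    rintro r s ⟨n, a, b, ha, hb, hbq, h⟩ ⟨m, c, d, hc, hd, hdq, h'⟩
    exact ⟨n + m, a * d + b * c, b * d, (ha.mul hd).add (hb.mul hc), hb.mul hd,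
      fun hh => (q.isPrime.mem_or_mem hh).elim hbq hdq, by simp only [map_add, map_mul, ← h, ← h']; ring⟩
  zero_mem' := ⟨0, 0, 1, isHomogeneous_zero _ _ _, isHomogeneous_one _ _,
    fun h => q.isPrime.ne_top ((Ideal.eq_top_iff_one _).mpr h), by simp⟩
  neg_mem' := by
    rintro r ⟨n, a, b, ha, hb, hbq, h⟩
    exact ⟨n, -a, b, ha.neg, hb, hbq, by rw [map_neg, ← h]; ring⟩

variable {ψ x}

theorem ev_ne_zero {q : PS} (hq : (gen ψ x).asHomogeneousIdeal ≤ q.asHomogeneousIdeal)
    {b : MvPolynomial (Finset σ) A} {n : ℕ} (hb : b.IsHomogeneous n) (hbq : b ∉ q.asHomogeneousIdeal) :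
    ev ψ x b ≠ 0 := fun h => hbq (hq ((mem_gker_iff ψ (mono x) hb).mpr h))

variable (ψ x) in
/-- A valuation ring dominating a point. -/
def Dom (q : PS) (V : ValuationSubring K) : Prop :=
  ∀ (n : ℕ) (a b : MvPolynomial (Finset σ) A), a.IsHomogeneous n → b.IsHomogeneous n →
    b ∉ q.asHomogeneousIdeal → ∀ r : K, r * ev ψ x b = ev ψ x a →
      r ∈ V ∧ (r ∈ V.nonunits ↔ a ∈ q.asHomogeneousIdeal)

theorem dom_of_le {q : PS} (hq : (gen ψ x).asHomogeneousIdeal ≤ q.asHomogeneousIdeal)
    {V : ValuationSubring K}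
    (h : ∀ (n : ℕ) (a b : MvPolynomial (Finset σ) A), a.IsHomogeneous n → b.IsHomogeneous n →
      b ∉ q.asHomogeneousIdeal → ∀ r : K, r * ev ψ x b = ev ψ x a →
        r ∈ V ∧ (a ∈ q.asHomogeneousIdeal → r ∈ V.nonunits)) :
    Dom ψ x q V := by
  intro n a b ha hb hbq r hr
  refine ⟨(h n a b ha hb hbq r hr).1, fun hnu => ?_, (h n a b ha hb hbq r hr).2⟩
  by_contra haq
  have hea := ev_ne_zero hq ha haq
  have hr0 : r ≠ 0 := by rintro rfl; rw [zero_mul] at hr; exact hea hr.symm
  have hinv : r⁻¹ ∈ V := (h n b a hb ha haq r⁻¹ (by rw [← hr, inv_mul_cancel_left₀ hr0])).1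
  exact ((V.mem_nonunits_iff_or).mp hnu).elim hr0 (fun h' => h' hinv)

theorem exists_dom {q : PS} (hq : (gen ψ x).asHomogeneousIdeal ≤ q.asHomogeneousIdeal) :
    ∃ V, Dom ψ x q V := by
  let M : Ideal (Lsub ψ x q) :=
    { carrier := {r | ∃ (n : ℕ) (a b : MvPolynomial (Finset σ) A), a.IsHomogeneous n ∧ b.IsHomogeneous n ∧
        b ∉ q.asHomogeneousIdeal ∧ a ∈ q.asHomogeneousIdeal ∧ (r : K) * ev ψ x b = ev ψ x a}
      add_mem' := by
        rintro r s ⟨n, a, b, ha, hb, hbq, haq, h⟩ ⟨m, c, d, hc, hd, hdq, hcq, h'⟩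
        exact ⟨n + m, a * d + b * c, b * d, (ha.mul hd).add (hb.mul hc), hb.mul hd,
          fun hh => (q.isPrime.mem_or_mem hh).elim hbq hdq,
          add_mem (Ideal.mul_mem_right _ _ haq) (Ideal.mul_mem_left _ _ hcq),
          by simp only [Subring.coe_add, map_add, map_mul, ← h, ← h']; ring⟩
      zero_mem' := ⟨0, 0, 1, isHomogeneous_zero _ _ _, isHomogeneous_one _ _,
        fun h => q.isPrime.ne_top ((Ideal.eq_top_iff_one _).mpr h), zero_mem _, by simp⟩
      smul_mem' := by
        rintro ⟨s, m, c, d, hc, hd, hdq, h'⟩ r ⟨n, a, b, ha, hb, hbq, haq, h⟩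
        exact ⟨m + n, c * a, d * b, hc.mul ha, hd.mul hb,
          fun hh => (q.isPrime.mem_or_mem hh).elim hdq hbq, Ideal.mul_mem_left _ _ haq,
          by simp only [smul_eq_mul, Subring.coe_mul, map_mul, ← h, ← h']; ring⟩ }
  have hM : M ≠ ⊤ := by
    intro hM
    obtain ⟨n, a, b, ha, hb, hbq, haq, h⟩ : (1 : Lsub ψ x q) ∈ M := hM ▸ Submodule.mem_top
    have h0 : b - a ∈ q.asHomogeneousIdeal := hq <| (mem_gker_iff ψ (mono x) (hb.sub ha)).mpr <| by
      rw [map_sub, sub_eq_zero, ← h, Subring.coe_one, one_mul]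
    exact hbq (by simpa using add_mem h0 haq)
  obtain ⟨V, hV, hVM⟩ := Ideal.image_subset_nonunits_valuationSubring M hM
  exact ⟨V, dom_of_le hq fun n a b ha hb hbq r hr =>
    ⟨hV ⟨n, a, b, ha, hb, hbq, hr⟩, fun haq =>
      hVM ⟨⟨r, n, a, b, ha, hb, hbq, hr⟩, ⟨n, a, b, ha, hb, hbq, haq, hr⟩, rfl⟩⟩⟩

omit [Fintype σ] in
theorem Dom.le {q : PS} {V : ValuationSubring K} (hV : Dom ψ x q V) : Lsub ψ x q ≤ V.toSubring := by
  rintro r ⟨n, a, b, ha, hb, hbq, hr⟩
  exact (hV n a b ha hb hbq r hr).1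

omit [Fintype σ] in
theorem Dom.nonunits_iff {q : PS} {V V' : ValuationSubring K} (hV : Dom ψ x q V) (hV' : Dom ψ x q V')
    {r : K} (hr : r ∈ Lsub ψ x q) : r ∈ V.nonunits ↔ r ∈ V'.nonunits := by
  obtain ⟨n, a, b, ha, hb, hbq, hr⟩ := hr
  exact (hV n a b ha hb hbq r hr).2.trans (hV' n a b ha hb hbq r hr).2.symm

omit [Fintype σ] in
theorem const_mem (q : PS) (a : A) : ψ a ∈ Lsub ψ x q :=
  ⟨0, C a, 1, isHomogeneous_C _ _, isHomogeneous_one _ _,
    fun h => q.isPrime.ne_top ((Ideal.eq_top_iff_one _).mpr h), by simp⟩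

theorem const_nonunit {q : PS} {V : ValuationSubring K} (hV : Dom ψ x q V) {a : A}
    (ha : C a ∈ q.asHomogeneousIdeal) : ψ a ∈ V.nonunits :=
  (hV 0 (C a) 1 (isHomogeneous_C _ _) (isHomogeneous_one _ _)
    (fun h => q.isPrime.ne_top ((Ideal.eq_top_iff_one _).mpr h)) (ψ a) (by simp)).2.mpr ha

theorem coord_mem (hx : ∀ k, x k ≠ 0) {q : PS} {V : ValuationSubring K} (hV : Dom ψ x q V) {k : σ}
    (hk : x k ∈ V) : x k ∈ Lsub ψ x q := by
  obtain ⟨S, hS⟩ := exists_X_notMem q
  by_cases hkS : k ∈ S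
  · have hprod : x k * mono x (S.erase k) = mono x S := Finset.mul_prod_erase S x hkS
    have h := hV 1 (X (S.erase k)) (X S) (isHomogeneous_X _ _) (isHomogeneous_X _ _) hS (x k)⁻¹
      (by simp only [eval₂Hom_X', ← hprod, inv_mul_cancel_left₀ (hx k)])
    have hna : (X (S.erase k) : MvPolynomial (Finset σ) A) ∉ q.asHomogeneousIdeal := fun hm =>
      ((V.inv_mem_nonunits_iff).mp (h.2.mpr hm)).elim (hx k) (fun h' => h' hk)
    exact ⟨1, X S, X (S.erase k), isHomogeneous_X _ _, isHomogeneous_X _ _, hna,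
      by simp only [eval₂Hom_X', hprod]⟩
  · exact ⟨1, X (insert k S), X S, isHomogeneous_X _ _, isHomogeneous_X _ _, hS,
      by simp only [eval₂Hom_X', mono, Finset.prod_insert hkS]⟩

/-- A finitely generated part of the fractions is defined on a neighbourhood. -/
theorem exists_nhd {q : PS} (s : Finset K) (hs : ∀ r ∈ s, r ∈ Lsub ψ x q) :
    ∃ b : MvPolynomial (Finset σ) A, b ∉ q.asHomogeneousIdeal ∧
      ∀ q' : PS, b ∉ q'.asHomogeneousIdeal → ∀ r ∈ s, r ∈ Lsub ψ x q' := by
  classical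
  induction s using Finset.induction with
  | empty => exact ⟨1, fun h => q.isPrime.ne_top ((Ideal.eq_top_iff_one _).mpr h), by simp⟩
  | insert r s _ ih =>
    obtain ⟨b, hb, hb'⟩ := ih fun r hr => hs r (Finset.mem_insert_of_mem hr)
    obtain ⟨n, a, d, ha, hd, hdq, hr⟩ := hs r (Finset.mem_insert_self _ _)
    refine ⟨b * d, fun hh => (q.isPrime.mem_or_mem hh).elim hb hdq, fun q' hq' r' hr' => ?_⟩
    rcases Finset.mem_insert.mp hr' with rfl | hr'
    · exact ⟨n, a, d, ha, hd, fun h => hq' (Ideal.mul_mem_left _ _ h), hr⟩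
    · exact hb' q' (fun h => hq' (Ideal.mul_mem_right _ _ h)) r' hr'

/-- Every valuation ring over `A` has a centre. -/
theorem exists_centre (hx : ∀ k, x k ≠ 0) (V : ValuationSubring K) (hψ : ∀ a, ψ a ∈ V) :
    ∃ q : PS, (gen ψ x).asHomogeneousIdeal ≤ q.asHomogeneousIdeal ∧ Dom ψ x q V ∧
      ∀ a, ψ a ∈ V.nonunits → C a ∈ q.asHomogeneousIdeal := by
  classical
  obtain ⟨S₀, -, hmax⟩ := Finset.exists_max_image Finset.univ (fun S => V.valuation (mono x S))
    (Finset.univ_nonempty (α := Finset σ))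
  have h0 := mono_ne_zero x hx S₀
  have hu : ∀ S, mono x S / mono x S₀ ∈ V := fun S => by
    refine V.mem_of_valuation_le_one _ ?_
    rw [map_div₀]
    exact div_le_one_of_le₀ (hmax S (Finset.mem_univ _)) zero_le
  let ψ' : A →+* V.toSubring := ψ.codRestrict V.toSubring hψ
  let u : Finset σ → V.toSubring := fun S => ⟨_, hu S⟩
  let g : MvPolynomial (Finset σ) A →+* V := eval₂Hom (S₁ := V.toSubring) ψ' u
  let res := IsLocalRing.residue V
  have hg : ∀ {p : MvPolynomial (Finset σ) A} {n : ℕ}, p.IsHomogeneous n →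
      ev ψ x p = mono x S₀ ^ n * (g p : K) := by
    intro p n hp
    have h1 := congr(Polynomial.eval (mono x S₀) $(gev_homogeneous ψ (fun S => mono x S / mono x S₀) hp))
    have h2 : (Polynomial.evalRingHom (mono x S₀)).comp (gev ψ (fun S => mono x S / mono x S₀)) = ev ψ x := by
      refine MvPolynomial.ringHom_ext (fun a => by simp [gev]) fun S => ?_
      simp [gev, div_mul_cancel₀ _ h0]
    have h3 : V.toSubring.subtype.comp g = eval₂Hom ψ (fun S => mono x S / mono x S₀) := by
      refine MvPolynomial.ringHom_ext (fun a => ?_) fun S => ?_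
      · simp [g, ψ']
      · simp [g, u]
    rw [← h2, RingHom.comp_apply, Polynomial.coe_evalRingHom, h1, Polynomial.eval_mul, Polynomial.eval_C,
      Polynomial.eval_pow, Polynomial.eval_X, ← h3, mul_comm]
    rfl
  have hw : res (g (X S₀)) ≠ 0 := by
    have h1 : g (X S₀) = 1 := Subtype.ext (by simp [g, u, div_self h0])
    rw [h1, map_one]
    exact one_ne_zero
  let q : PS := pt (res.comp (g.comp C)) (fun S => res (g (X S))) hw
  have hker : ∀ {p : MvPolynomial (Finset σ) A} {n : ℕ}, p.IsHomogeneous n →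
      (p ∈ q.asHomogeneousIdeal ↔ (g p : K) ∈ V.nonunits) := by
    intro p n hp
    refine (mem_gker_iff _ _ hp).trans ?_
    rw [V.coe_mem_nonunits_iff, ← IsLocalRing.residue_eq_zero_iff]
    have h1 : res.comp g = eval₂Hom (res.comp (g.comp C)) (fun S => res (g (X S))) :=
      MvPolynomial.ringHom_ext (fun a => by simp) fun S => by simp
    rw [← h1]
    rfl
  have hgen : (gen ψ x).asHomogeneousIdeal ≤ q.asHomogeneousIdeal := by
    intro p hp
    rw [← p.sum_homogeneousComponent]
    refine sum_mem fun n _ => ?_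
    refine (hker (homogeneousComponent_isHomogeneous n p)).mpr ?_
    have h1 : ev ψ x (homogeneousComponent n p) = 0 := by
      rw [← coeff_gev, RingHom.mem_ker.mp hp, Polynomial.coeff_zero]
    rw [hg (homogeneousComponent_isHomogeneous n p), mul_eq_zero, or_iff_right (pow_ne_zero _ h0)] at h1
    rw [h1]
    exact V.nonunits.zero_mem
  refine ⟨q, hgen, dom_of_le hgen fun n a b ha hb hbq r hr => ?_, fun a ha => ?_⟩
  · rw [hg ha, hg hb, mul_left_comm, mul_right_inj' (pow_ne_zero _ h0)] at hr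
    have hbu : IsUnit (g b) := by
      by_contra hnu
      exact hbq ((hker hb).mpr (V.coe_mem_nonunits_iff.mpr hnu))
    obtain ⟨c, hc⟩ := hbu.exists_right_inv
    have hr' : r = (g a * c : V) := by
      have hc' : (g b : K) * (c : K) = 1 := congr(Subtype.val $hc)
      rw [MulMemClass.coe_mul, ← hr, mul_assoc, hc', mul_one]
    rw [hr']
    exact ⟨SetLike.coe_mem _, fun haq => V.coe_mem_nonunits_iff.mpr
      (Ideal.mul_mem_right _ _ (V.coe_mem_nonunits_iff.mp ((hker ha).mp haq)))⟩
  · refine (hker (isHomogeneous_C _ a)).mpr ?_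
    have : (g (C a) : K) = ψ a := by simp [g, ψ']
    rwa [this]

/-- The valuation theoretic form of connectedness of the closed part, Noetherian case. -/
theorem idem_const_noeth [IsNoetherianRing A] (I : Ideal A) [HenselianRing A I] (hx : ∀ k, x k ≠ 0)
    {ι : Type*} (B : ι → Finset σ) (e : ι → K)
    (he : ∀ i, e i ∈ Subring.closure (Set.range ψ ∪ x '' B i))
    (hcov : ∀ V : ValuationSubring K, (∀ a, ψ a ∈ V) → ∃ i, ∀ k ∈ B i, x k ∈ V)
    (hidem : ∀ (V : ValuationSubring K) (i : ι), (∀ a, ψ a ∈ V) → (∀ a ∈ I, ψ a ∈ V.nonunits) →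
      (∀ k ∈ B i, x k ∈ V) → e i * (1 - e i) ∈ V.nonunits)
    (hagree : ∀ (V : ValuationSubring K) (i j : ι), (∀ a, ψ a ∈ V) → (∀ a ∈ I, ψ a ∈ V.nonunits) →
      (∀ k ∈ B i, x k ∈ V) → (∀ k ∈ B j, x k ∈ V) → e i - e j ∈ V.nonunits)
    (V₀ V₁ : ValuationSubring K) (h₀ : ∀ a, ψ a ∈ V₀) (h₁ : ∀ a, ψ a ∈ V₁)
    (h₀' : ∀ a ∈ I, ψ a ∈ V₀.nonunits) (h₁' : ∀ a ∈ I, ψ a ∈ V₁.nonunits)
    (i₀ i₁ : ι) (hb₀ : ∀ k ∈ B i₀, x k ∈ V₀) (hb₁ : ∀ k ∈ B i₁, x k ∈ V₁)
    (hz : e i₀ ∈ V₀.nonunits) : e i₁ ∈ V₁.nonunits := by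
  classical
  let T : TopologicalSpace.Closeds ↥(Proj (homogeneousSubmodule (Finset σ) A)) :=
    ⟨closure {(gen ψ x : PS)}, isClosed_closure⟩
  let J := Scheme.IdealSheafData.vanishingIdeal T
  have hrange : Set.range J.subschemeι = closure {(gen ψ x : PS)} := by
    rw [Scheme.IdealSheafData.range_subschemeι]
    exact Scheme.IdealSheafData.coe_support_vanishingIdeal T
  haveI : IsProper (str (Finset σ) A) := isProper_str
  let h : J.subscheme ⟶ Spec (CommRingCat.of A) := J.subschemeι ≫ str (Finset σ) A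
  haveI : IsProper h := MorphismProperty.comp_mem @IsProper _ _ inferInstance inferInstance
  let pnt : J.subscheme → PS := fun y => J.subschemeι y
  have hle : ∀ y, (gen ψ x).asHomogeneousIdeal ≤ (pnt y).asHomogeneousIdeal := fun y => by
    have hy : pnt y ∈ closure {(gen ψ x : PS)} := hrange ▸ Set.mem_range_self y
    rw [← ProjectiveSpectrum.zeroLocus_vanishingIdeal_eq_closure, ProjectiveSpectrum.vanishingIdeal_singleton] at hy
    exact hy
  let Z : Set J.subscheme := h ⁻¹' PrimeSpectrum.zeroLocus (I : Set A)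
  have hZ : ∀ y, y ∈ Z ↔ ∀ a ∈ I, C a ∈ (pnt y).asHomogeneousIdeal := fun y => by
    refine forall₂_congr fun a _ => ?_
    exact (not_iff_not.mp ((str_mem_basicOpen (J.subschemeι y) a).trans Iff.rfl) :
      a ∈ (str (Finset σ) A (J.subschemeι y)).asIdeal ↔ _)
  have hdomI : ∀ y ∈ Z, ∀ {V : ValuationSubring K}, Dom ψ x (pnt y) V →
      (∀ a, ψ a ∈ V) ∧ ∀ a ∈ I, ψ a ∈ V.nonunits :=
    fun y hy V hV => ⟨fun a => hV.le (const_mem _ a), fun a ha => const_nonunit hV ((hZ y).mp hy a ha)⟩
  let c : Set Z := {y | ∃ V, Dom ψ x (pnt y) V ∧ ∃ i, (∀ k ∈ B i, x k ∈ V) ∧ e i ∈ V.nonunits}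
  have hval : ∀ (y : Z) (i : ι), (∀ k ∈ B i, x k ∈ Lsub ψ x (pnt y)) → ∀ {V : ValuationSubring K},
      Dom ψ x (pnt y) V → (y ∈ c ↔ e i ∈ V.nonunits) := by
    intro y i hi V hV
    have hei : e i ∈ Lsub ψ x (pnt y) := by
      refine Subring.closure_le.mpr ?_ (he i)
      rintro _ (⟨a, rfl⟩ | ⟨k, hk, rfl⟩)
      · exact const_mem _ a
      · exact hi k hk
    refine ⟨fun ⟨V', hV', j, hj, hej⟩ => ?_, fun hei' => ⟨V, hV, i, fun k hk => hV.le (hi k hk), hei'⟩⟩
    obtain ⟨hA, hI⟩ := hdomI y.1 y.2 hV'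
    refine (hV'.nonunits_iff hV hei).mp ?_
    simpa using add_mem (hagree V' i j hA hI (fun k hk => hV'.le (hi k hk)) hj) hej
  have hc : IsClopen c := by
    have hloc : ∀ y : Z, ∃ U : Set Z, IsOpen U ∧ y ∈ U ∧ IsOpen (U ∩ c) ∧ IsOpen (U ∩ cᶜ) := by
      intro y
      obtain ⟨V, hV⟩ := exists_dom (hle y.1)
      obtain ⟨i, hi⟩ := hcov V (hdomI y.1 y.2 hV).1
      let s : Finset K := insert (e i) ((B i).image x)
      have hblk : ∀ k ∈ B i, x k ∈ Lsub ψ x (pnt y.1) := fun k hk => coord_mem hx hV (hi k hk)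
      have hei : e i ∈ Lsub ψ x (pnt y.1) := by
        refine Subring.closure_le.mpr ?_ (he i)
        rintro _ (⟨a, rfl⟩ | ⟨k, hk, rfl⟩)
        · exact const_mem _ a
        · exact hblk k hk
      obtain ⟨b₁, hb₁y, hb₁'⟩ := exists_nhd s (q := pnt y.1) (by
        intro r hr
        simp only [s, Finset.mem_insert, Finset.mem_image] at hr
        rcases hr with rfl | ⟨k, hk, rfl⟩
        exacts [hei, hblk k hk])
      obtain ⟨n, a, b, ha, hb, hby, hab⟩ := hei
      have hopen : ∀ p : MvPolynomial (Finset σ) A, IsOpen {z : Z | p ∉ (pnt z.1).asHomogeneousIdeal} := by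
        intro p
        have h1 := (ProjectiveSpectrum.basicOpen (homogeneousSubmodule (Finset σ) A) p).isOpen
        have h2 := (h1.preimage (J.subschemeι).continuous).preimage (continuous_subtype_val (p := (· ∈ Z)))
        exact h2
      let U : Set Z := {z | b₁ ∉ (pnt z.1).asHomogeneousIdeal} ∩ {z | b ∉ (pnt z.1).asHomogeneousIdeal}
      have hU : IsOpen U := (hopen b₁).inter (hopen b)
      have hchar : ∀ z ∈ U, (z ∈ c ↔ a ∈ (pnt z.1).asHomogeneousIdeal) ∧
          (a ∈ (pnt z.1).asHomogeneousIdeal ↔ b - a ∉ (pnt z.1).asHomogeneousIdeal) := by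
        rintro z ⟨hz₁, hzb⟩
        obtain ⟨V', hV'⟩ := exists_dom (hle z.1)
        have hB : ∀ k ∈ B i, x k ∈ Lsub ψ x (pnt z.1) := fun k hk =>
          hb₁' _ hz₁ _ (Finset.mem_insert_of_mem (Finset.mem_image_of_mem x hk))
        refine ⟨(hval z i hB hV').trans (hV' n a b ha hb hzb _ hab).2, fun haz hbaz => hzb ?_, fun hbaz => ?_⟩
        · simpa using add_mem hbaz haz
        obtain ⟨hA, hI⟩ := hdomI z.1 z.2 hV'
        have hprod : a * (b - a) ∈ (pnt z.1).asHomogeneousIdeal := by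
          refine (hV' (n + n) (a * (b - a)) (b * b) (ha.mul (hb.sub ha)) (hb.mul hb)
            (fun hh => ((pnt z.1).isPrime.mem_or_mem hh).elim hzb hzb) _ ?_).2.mp
            (hidem V' i hA hI fun k hk => hV'.le (hB k hk))
          simp only [map_mul, map_sub, ← hab]
          ring
        exact ((pnt z.1).isPrime.mem_or_mem hprod).resolve_right hbaz
      refine ⟨U, hU, ⟨hb₁y, hby⟩, ?_, ?_⟩
      · have : U ∩ c = U ∩ {z | b - a ∉ (pnt z.1).asHomogeneousIdeal} :=
          Set.ext fun z => and_congr_right fun hz => (hchar z hz).1.trans (hchar z hz).2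
        rw [this]
        exact hU.inter (hopen _)
      · have : U ∩ cᶜ = U ∩ {z | a ∉ (pnt z.1).asHomogeneousIdeal} :=
          Set.ext fun z => and_congr_right fun hz => not_congr (hchar z hz).1
        rw [this]
        exact hU.inter (hopen _)
    refine ⟨isOpen_compl_iff.mp (isOpen_iff_forall_mem_open.mpr fun y hy => ?_),
      isOpen_iff_forall_mem_open.mpr fun y hy => ?_⟩
    · obtain ⟨U, -, hyU, -, h2⟩ := hloc y
      exact ⟨_, Set.inter_subset_right, h2, hyU, hy⟩
    · obtain ⟨U, -, hyU, h2, -⟩ := hloc y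
      exact ⟨_, Set.inter_subset_right, h2, hyU, hy⟩
  obtain ⟨U, ⟨hU, hUc⟩, -⟩ := HensCouple7.lifts_proper I h c hc
  haveI : PreconnectedSpace J.subscheme := by
    refine ⟨(J.subschemeι.isClosedEmbedding.isInducing.isPreconnected_image).mp ?_⟩
    rw [Set.image_univ, hrange]
    exact isPreconnected_singleton.closure
  have hpt : ∀ (V : ValuationSubring K) (i : ι), (∀ a, ψ a ∈ V) → (∀ a ∈ I, ψ a ∈ V.nonunits) →
      (∀ k ∈ B i, x k ∈ V) → ∃ y : Z, (y ∈ c ↔ e i ∈ V.nonunits) := by
    intro V i hA hI hi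
    obtain ⟨q, hq, hV, hq'⟩ := exists_centre hx V hA
    obtain ⟨y, hy⟩ : (q : ↥(Proj (homogeneousSubmodule (Finset σ) A))) ∈ Set.range J.subschemeι := by
      rw [hrange, ← ProjectiveSpectrum.zeroLocus_vanishingIdeal_eq_closure,
        ProjectiveSpectrum.vanishingIdeal_singleton]
      exact hq
    have hy' : pnt y = q := hy
    exact ⟨⟨y, (hZ y).mpr fun a ha => hy'.symm ▸ hq' a (hI a ha)⟩,
      hval _ i (fun k hk => hy'.symm ▸ coord_mem hx hV (hi k hk)) (hy'.symm ▸ hV)⟩
  obtain ⟨y₀, hy₀⟩ := hpt V₀ i₀ h₀ h₀' hb₀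
  obtain ⟨y₁, hy₁⟩ := hpt V₁ i₁ h₁ h₁' hb₁
  refine hy₁.mp ?_
  have hy : y₀ ∈ c := hy₀.mpr hz
  rw [← hUc] at hy ⊢
  rw [Set.mem_preimage, (isClopen_iff.mp hU).resolve_left (Set.nonempty_iff_ne_empty.mp ⟨_, hy⟩)]
  trivial

end val

end Groth.Agent.EtPBC63.Conn
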