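import Groth.Agent.EtPBC63.Conn.ProjModel
import Groth.Agent.Hensel.NoethPair
import Groth.Agent.Hensel.Henselization

/-!
# Valuations of a field over a henselian pair

Reduction of the valuation theoretic connectedness statement to Noetherian henselian pairs, using the
quasi-compactness of the space of valuation rings.
-/

universe u

namespace Groth.Agent.EtPBC63.Conn

variable {A : Type u} [CommRing A] {K : Type u} [Field K] (φ : A →+* K) (I : Ideal A)

/-- The valuation ring receives `φ`, with the elements of `I` among the given ones going to nonunits. -/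
def Over (s : Set A) (V : ValuationSubring K) : Prop :=
  (∀ a ∈ s, φ a ∈ V) ∧ ∀ a ∈ s, a ∈ I → φ a ∈ V.nonunits

theorem Over.mono {s t : Set A} (h : s ⊆ t) {V : ValuationSubring K} (hV : Over φ I t V) : Over φ I s V :=
  ⟨fun a ha => hV.1 a (h ha), fun a ha => hV.2 a (h ha)⟩

theorem exists_finset_mem {F : Set K} {y : K} (hy : y ∈ Subring.closure (Set.range φ ∪ F)) :
    ∃ s : Finset A, y ∈ Subring.closure (φ '' s ∪ F) := by
  classical
  have mono : ∀ {s t : Finset A}, s ⊆ t →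
      Subring.closure (φ '' (s : Set A) ∪ F) ≤ Subring.closure (φ '' (t : Set A) ∪ F) := fun h =>
    Subring.closure_mono (Set.union_subset_union_left _ (Set.image_mono h))
  induction hy using Subring.closure_induction with
  | mem y hy =>
    rcases hy with ⟨a, rfl⟩ | hy
    · exact ⟨{a}, Subring.subset_closure (Or.inl ⟨a, Finset.mem_singleton_self a, rfl⟩)⟩
    · exact ⟨∅, Subring.subset_closure (Or.inr hy)⟩
  | zero => exact ⟨∅, zero_mem _⟩
  | one => exact ⟨∅, one_mem _⟩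
  | add a b _ _ ha hb =>
    obtain ⟨s, hs⟩ := ha
    obtain ⟨t, ht⟩ := hb
    exact ⟨s ∪ t, add_mem (mono Finset.subset_union_left hs) (mono Finset.subset_union_right ht)⟩
  | neg a _ ha =>
    obtain ⟨s, hs⟩ := ha
    exact ⟨s, neg_mem hs⟩
  | mul a b _ _ ha hb =>
    obtain ⟨s, hs⟩ := ha
    obtain ⟨t, ht⟩ := hb
    exact ⟨s ∪ t, mul_mem (mono Finset.subset_union_left hs) (mono Finset.subset_union_right ht)⟩

/-- Quasi-compactness of the space of valuation rings. -/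
theorem exists_finset_valuation (F Y : Set K)
    (h : ∀ V : ValuationSubring K, Over φ I Set.univ V → F ⊆ V → ¬ Y ⊆ V.nonunits) :
    ∃ s : Finset A, ∀ V : ValuationSubring K, Over φ I s V → F ⊆ V → ¬ Y ⊆ V.nonunits := by
  classical
  let B := Subring.closure (Set.range φ ∪ (F ∪ Y))
  let G : Set B := Subtype.val ⁻¹' (φ '' I ∪ Y)
  have htop : Ideal.span G = ⊤ := by
    by_contra hne
    obtain ⟨V, hBV, hV⟩ := Ideal.image_subset_nonunits_valuationSubring _ hne
    have hmem : ∀ y ∈ Set.range φ ∪ (F ∪ Y), y ∈ V := fun y hy => hBV (Subring.subset_closure hy)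
    refine h V ⟨fun a _ => hmem _ (Or.inl ⟨a, rfl⟩), fun a _ ha => ?_⟩ (fun y hy => hmem y (Or.inr (Or.inl hy)))
      fun y hy => hV ⟨⟨y, Subring.subset_closure (Or.inr (Or.inr hy))⟩, Ideal.subset_span (Or.inr hy), rfl⟩
    exact hV ⟨⟨φ a, Subring.subset_closure (Or.inl ⟨a, rfl⟩)⟩,
      Ideal.subset_span (Or.inl ⟨a, ha, rfl⟩), rfl⟩
  have key : ∀ z : B, z ∈ Ideal.span G → ∃ s : Finset A, ∀ V : ValuationSubring K, Over φ I s V → F ⊆ V →
      Y ⊆ V.nonunits → (z : K) ∈ V.nonunits := by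
    intro z hz
    induction hz using Submodule.span_induction with
    | mem z hz =>
      rcases hz with ⟨a, ha, hza⟩ | hz
      · exact ⟨{a}, fun V hV _ _ => hza ▸ hV.2 a (Finset.mem_singleton_self a) ha⟩
      · exact ⟨∅, fun V _ _ hY => hY hz⟩
    | zero => exact ⟨∅, fun V _ _ _ => V.nonunits.zero_mem⟩
    | add a b _ _ ha hb =>
      obtain ⟨s, hs⟩ := ha
      obtain ⟨t, ht⟩ := hb
      exact ⟨s ∪ t, fun V hV hF hY => add_mem
        (hs V (hV.mono φ I (Finset.coe_subset.mpr Finset.subset_union_left)) hF hY)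
        (ht V (hV.mono φ I (Finset.coe_subset.mpr Finset.subset_union_right)) hF hY)⟩
    | smul r z _ hz =>
      obtain ⟨s, hs⟩ := hz
      obtain ⟨t, ht⟩ := exists_finset_mem φ r.2
      refine ⟨s ∪ t, fun V hV hF hY => ?_⟩
      have hzV := hs V (hV.mono φ I (Finset.coe_subset.mpr Finset.subset_union_left)) hF hY
      have hrV : (r : K) ∈ V := by
        refine (Subring.closure_le (t := V.toSubring)).mpr ?_ ht
        rintro y (⟨a, ha, rfl⟩ | hy | hy)
        · exact (hV.mono φ I (Finset.coe_subset.mpr Finset.subset_union_right)).1 a ha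
        · exact hF hy
        · exact V.nonunits_subset (hY hy)
      obtain ⟨hz', hzm⟩ := V.mem_nonunits_iff_exists_mem_maximalIdeal.mp hzV
      exact V.coe_mem_nonunits_iff.mpr (Ideal.mul_mem_left _ (⟨_, hrV⟩ : V) hzm)
  obtain ⟨s, hs⟩ := key 1 (htop ▸ Submodule.mem_top)
  exact ⟨s, fun V hV hF hY => by
    have h1 := hs V hV hF hY
    rw [Subring.coe_one, ValuationSubring.mem_nonunits_iff, map_one] at h1
    exact lt_irrefl _ h1⟩

/-- The valuation theoretic form of connectedness of the closed part. -/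
theorem idem_const [HenselianRing A I] {σ : Type} [Fintype σ] [DecidableEq σ] (x : σ → K)
    (hx : ∀ k, x k ≠ 0) {ι : Type*} [Finite ι] (B : ι → Finset σ) (e : ι → K)
    (he : ∀ i, e i ∈ Subring.closure (Set.range φ ∪ x '' B i))
    (hcov : ∀ V : ValuationSubring K, (∀ a, φ a ∈ V) → ∃ i, ∀ k ∈ B i, x k ∈ V)
    (hidem : ∀ (V : ValuationSubring K) (i : ι), (∀ a, φ a ∈ V) → (∀ a ∈ I, φ a ∈ V.nonunits) →
      (∀ k ∈ B i, x k ∈ V) → e i * (1 - e i) ∈ V.nonunits)
    (hagree : ∀ (V : ValuationSubring K) (i j : ι), (∀ a, φ a ∈ V) → (∀ a ∈ I, φ a ∈ V.nonunits) →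
      (∀ k ∈ B i, x k ∈ V) → (∀ k ∈ B j, x k ∈ V) → e i - e j ∈ V.nonunits)
    (V₀ V₁ : ValuationSubring K) (h₀ : ∀ a, φ a ∈ V₀) (h₁ : ∀ a, φ a ∈ V₁)
    (h₀' : ∀ a ∈ I, φ a ∈ V₀.nonunits) (h₁' : ∀ a ∈ I, φ a ∈ V₁.nonunits)
    (i₀ i₁ : ι) (hb₀ : ∀ k ∈ B i₀, x k ∈ V₀) (hb₁ : ∀ k ∈ B i₁, x k ∈ V₁)
    (hz : e i₀ ∈ V₀.nonunits) : e i₁ ∈ V₁.nonunits := by
  classical
  haveI := Fintype.ofFinite ι
  -- the finitely many elements needed
  choose se hse using fun i => exists_finset_mem φ (he i)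
  have hC : ∀ k : (i : ι) → σ, (∀ i, k i ∈ B i) → ∃ s : Finset A, ∀ V : ValuationSubring K,
      Over φ ⊥ s V → ∅ ⊆ (V : Set K) → ¬ Set.range (fun i => (x (k i))⁻¹) ⊆ V.nonunits := by
    refine fun k hk => exists_finset_valuation φ ⊥ ∅ _ fun V hV _ hY => ?_
    obtain ⟨i, hi⟩ := hcov V fun a => hV.1 a trivial
    exact ((V.inv_mem_nonunits_iff).mp (hY ⟨i, rfl⟩)).elim (hx _) fun h => h (hi _ (hk i))
  choose sc hsc using hC
  have hfin : ∀ (F : Set K) (d : K),
      (∀ V : ValuationSubring K, (∀ a, φ a ∈ V) → (∀ a ∈ I, φ a ∈ V.nonunits) → F ⊆ V → d ∈ V.nonunits) →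
      ∃ s : Finset A, ∀ V : ValuationSubring K, Over φ I s V → F ⊆ V → d ∈ V.nonunits := by
    intro F d hd
    rcases eq_or_ne d 0 with rfl | hd0
    · exact ⟨∅, fun V _ _ => V.nonunits.zero_mem⟩
    obtain ⟨s, hs⟩ := exists_finset_valuation φ I (insert d⁻¹ F) ∅ fun V hV hF _ => by
      exfalso
      have h1 := hd V (fun a => hV.1 a trivial) (fun a ha => hV.2 a trivial ha)
        fun y hy => hF (Set.mem_insert_of_mem _ hy)
      exact ((V.mem_nonunits_iff_or).mp h1).elim hd0 fun h2 => h2 (hF (Set.mem_insert _ _))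
    refine ⟨s, fun V hV hF => (V.mem_nonunits_iff_or).mpr (Or.inr fun hinv => ?_)⟩
    exact hs V hV (Set.insert_subset hinv hF) (Set.empty_subset _)
  have hI1 : ∀ i, ∀ V : ValuationSubring K, (∀ a, φ a ∈ V) → (∀ a ∈ I, φ a ∈ V.nonunits) →
      x '' B i ⊆ V → e i * (1 - e i) ∈ V.nonunits :=
    fun i V hA hI hi => hidem V i hA hI fun k hk => hi ⟨k, hk, rfl⟩
  choose si hsi using fun i => hfin _ _ (hI1 i)
  have hA1 : ∀ ij : ι × ι, ∀ V : ValuationSubring K, (∀ a, φ a ∈ V) → (∀ a ∈ I, φ a ∈ V.nonunits) →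
      x '' B ij.1 ∪ x '' B ij.2 ⊆ V → e ij.1 - e ij.2 ∈ V.nonunits :=
    fun ij V hA hI h => hagree V ij.1 ij.2 hA hI (fun k hk => h (Or.inl ⟨k, hk, rfl⟩))
      fun k hk => h (Or.inr ⟨k, hk, rfl⟩)
  choose sa hsa using fun ij => hfin _ _ (hA1 ij)
  let s : Finset A := (Finset.univ.biUnion se ∪ Finset.univ.biUnion si) ∪ Finset.univ.biUnion sa ∪
    Finset.univ.biUnion fun k : {k : ι → σ // ∀ i, k i ∈ B i} => sc k.1 k.2
  -- the Noetherian henselian pair
  let A₀ := MvPolynomial ↥s (ULift.{u} ℤ)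
  let g : A₀ →+* A := MvPolynomial.eval₂Hom ((Int.castRingHom A).comp ULift.ringEquiv.toRingHom) Subtype.val
  obtain ⟨A₁, _, _, hH⟩ := Hensel.exists_isPairHenselization A₀ (I.comap g)
  obtain ⟨g₁, hg₁, -⟩ := hH.2 A I g inferInstance Ideal.map_comap_le
  haveI := hH.1
  haveI : IsNoetherianRing (ULift.{u} ℤ) := isNoetherianRing_of_ringEquiv ℤ ULift.ringEquiv.symm
  haveI : IsNoetherianRing A₀ := inferInstance
  haveI := Hensel.isNoetherianRing_of_isPairHenselization (I.comap g) hH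
  have hgX : ∀ a, a ∈ s → ∃ a₀ : A₀, g a₀ = a := fun a ha => ⟨MvPolynomial.X (⟨a, ha⟩ : ↥s), MvPolynomial.eval₂Hom_X' _ _ _⟩
  let ψ : A₁ →+* K := φ.comp g₁
  let I₁ := (I.comap g).map (algebraMap A₀ A₁)
  have hg' : ∀ a₀, g₁ (algebraMap A₀ A₁ a₀) = g a₀ := fun a₀ => RingHom.congr_fun hg₁ a₀
  have hI₁ : ∀ a ∈ I₁, g₁ a ∈ I := by
    show I₁ ≤ I.comap g₁
    rw [Ideal.map_le_iff_le_comap, Ideal.comap_comap, hg₁]
  have hover : ∀ {V : ValuationSubring K}, (∀ a, ψ a ∈ V) → ∀ (J : Ideal A), J ≤ I →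
      ((∀ a ∈ I₁, ψ a ∈ V.nonunits) ∨ J = ⊥) → Over φ J s V := by
    intro V hV J hJ h
    refine ⟨fun a ha => ?_, fun a ha haJ => ?_⟩
    · obtain ⟨a₀, rfl⟩ := hgX a ha
      rw [← hg']
      exact hV _
    · rcases h with h | rfl
      · obtain ⟨a₀, rfl⟩ := hgX a ha
        rw [← hg']
        exact h _ (Ideal.mem_map_of_mem _ (hJ haJ))
      · rw [Submodule.mem_bot] at haJ
        rw [haJ, map_zero]
        exact V.nonunits.zero_mem
  have hse' : ∀ i, (se i : Set A) ⊆ s := fun i a ha => by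
    simp only [s, Finset.coe_union, Set.mem_union, Finset.coe_biUnion, Set.mem_iUnion]
    exact Or.inl (Or.inl (Or.inl ⟨i, Finset.mem_univ i, ha⟩))
  have hsi' : ∀ i, (si i : Set A) ⊆ s := fun i a ha => by
    simp only [s, Finset.coe_union, Set.mem_union, Finset.coe_biUnion, Set.mem_iUnion]
    exact Or.inl (Or.inl (Or.inr ⟨i, Finset.mem_univ i, ha⟩))
  have hsa' : ∀ i, (sa i : Set A) ⊆ s := fun i a ha => by
    simp only [s, Finset.coe_union, Set.mem_union, Finset.coe_biUnion, Set.mem_iUnion]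
    exact Or.inl (Or.inr ⟨i, Finset.mem_univ i, ha⟩)
  have hsc' : ∀ k hk, (sc k hk : Set A) ⊆ s := fun k hk a ha => by
    simp only [s, Finset.coe_union, Set.mem_union, Finset.coe_biUnion, Set.mem_iUnion]
    exact Or.inr ⟨⟨k, hk⟩, Finset.mem_univ _, ha⟩
  refine idem_const_noeth (ψ := ψ) I₁ hx B e (fun i => ?_) (fun V hV => ?_) (fun V i hV hI hi => ?_)
    (fun V i j hV hI hi hj => ?_) V₀ V₁ (fun a => h₀ _) (fun a => h₁ _)
    (fun a ha => h₀' _ (hI₁ a ha)) (fun a ha => h₁' _ (hI₁ a ha)) i₀ i₁ hb₀ hb₁ hz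
  · refine Subring.closure_mono (Set.union_subset_union_left _ ?_) (hse i)
    rintro _ ⟨a, ha, rfl⟩
    obtain ⟨a₀, rfl⟩ := hgX a (hse' i ha)
    exact ⟨algebraMap A₀ A₁ a₀, congrArg φ (hg' a₀)⟩
  · by_contra! hne
    choose k hk hk' using hne
    refine hsc k hk V ((hover hV ⊥ bot_le (Or.inr rfl)).mono φ ⊥ (hsc' k hk)) (Set.empty_subset _) ?_
    rintro _ ⟨i, rfl⟩
    exact (V.inv_mem_nonunits_iff).mpr (Or.inr (hk' i))
  · exact hsi i V ((hover hV I le_rfl (Or.inl hI)).mono φ I (hsi' i)) (by rintro _ ⟨k, hk, rfl⟩; exact hi k hk)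
  · refine hsa (i, j) V ((hover hV I le_rfl (Or.inl hI)).mono φ I (hsa' (i, j))) ?_
    rintro _ (⟨k, hk, rfl⟩ | ⟨k, hk, rfl⟩)
    exacts [hi k hk, hj k hk]

end Groth.Agent.EtPBC63.Conn
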